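import Cfsg.Agent.Spor.Suz1782.S.D0

set_option autoImplicit false
set_option maxRecDepth 100000000
set_option Elab.async false

namespace Cfsg.Agent.Spor.Suz1782.S

theorem gr4 : sub M3 (U.growI W2 [0, 1, 2, 3, 4, 5, 3, 2, 1, 0, 1, 2, 3, 4, 5, 2, 1, 5] (Nat.shiftLeft 1 47)) = true := by decide +kernel

theorem sd6 : U.sends [13, 3, 5, 7, 5, 3, 13] 0 47 = true := by decide +kernel

theorem gr7 : sub (ones 1782) (U.growI ([13, 3, 5, 7, 5, 3, 13] :: W2) [0, 1, 2, 3, 4, 5, 6, 4, 3, 2, 1, 0, 1, 2, 3, 4, 5, 6, 4, 3, 2, 1, 6] (Nat.shiftLeft 1 0)) = true := by decide +kernel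

theorem cl9 : band (U.closedW W2 M3) (sub (Nat.shiftLeft 1 47) M3) = true := by decide +kernel

theorem sz10 : sizeOk 11 M3 416 = true := by decide +kernel

theorem gr13 : sub M12 (U.growI W2 [1, 2, 3, 4, 5, 2, 1, 0, 1, 2, 3, 4, 5, 2, 1, 0, 1, 2, 3, 4, 5, 2, 1, 0, 1, 2] (Nat.shiftLeft 1 1)) = true := by decide +kernel

theorem sd15 : U.sends [13] 0 1 = true := by decide +kernel

theorem gr16 : sub (ones 1782) (U.growI ([13] :: W2) [0, 2, 3, 4, 5, 6, 3, 2, 1, 0, 2, 3, 4, 5, 6, 3, 2, 1, 0, 2, 3, 4, 5, 6, 3, 2, 1, 0, 6] (Nat.shiftLeft 1 0)) = true := by decide +kernel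

theorem cl18 : band (U.closedW W2 M12) (sub (Nat.shiftLeft 1 1) M12) = true := by decide +kernel

theorem sz19 : sizeOk 11 M12 1365 = true := by decide +kernel

theorem ff21 : U.fixFrom 11 1782 1 = true := by decide +kernel

theorem ff22 : U.fixFrom 11 1782 3 = true := by decide +kernel

theorem ff23 : U.fixFrom 11 1782 5 = true := by decide +kernel

theorem ff24 : U.fixFrom 11 1782 7 = true := by decide +kernel

theorem ff25 : U.fixFrom 11 1782 9 = true := by decide +kernel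

theorem ff26 : U.fixFrom 11 1782 11 = true := by decide +kernel

theorem ff27 : U.fixFrom 11 1782 13 = true := by decide +kernel

end Cfsg.Agent.Spor.Suz1782.S
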