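import Cfsg.Agent.Spor.Prim
import Cfsg.Agent.Spor.Suz1782.Main
import Cfsg.Agent.Spor.Suz1782.S.C0

set_option autoImplicit false
set_option maxRecDepth 100000000
set_option Elab.async false

namespace Cfsg.Agent.Spor.Suz1782.S

theorem hU : U.Ok 11 := U.ok_of 11 (show AllP (fun n => Net.okb 11 n = true) [n0, n1, n2, n3, n4, n5, n6] from AllP.cons ok0 (AllP.cons ok1 (AllP.cons ok2 (AllP.cons ok3 (AllP.cons ok4 (AllP.cons ok5 (AllP.cons ok6 (AllP.nil))))))))

theorem hfP : ∀ j < 7, U.fP [1, 3, 5, 7, 9, 11, 13] j = fP j := by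
  intro j hj
  interval_cases j <;> rfl
theorem eG : gsub 7 fP = U.lsub W1 := (gsub_congr hfP).symm.trans (lsub_eq_gsub U [1, 3, 5, 7, 9, 11, 13])
theorem upz1 : ev (atm 7 fP) [0] = U.τ 1 := pz1
theorem upz3 : ev (atm 7 fP) [2] = U.τ 3 := pz2
theorem upz5 : ev (atm 7 fP) [4] = U.τ 5 := pz3
theorem upz7 : ev (atm 7 fP) [6] = U.τ 7 := pz4
theorem upz9 : ev (atm 7 fP) [8] = U.τ 9 := pz5
theorem upz11 : ev (atm 7 fP) [10] = U.τ 11 := pz6
theorem upz13 : ev (atm 7 fP) [12] = U.τ 13 := pz7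
theorem eH : wsub 7 fP BW = U.lsub W2 :=
  lsub_eq_of_all₂ (show List.Forall₂ _ [[0], [2], [4], [6], [8], [10]] [[1], [3], [5], [7], [9], [11]] from List.Forall₂.cons (upz1.trans (one_mul _).symm) (List.Forall₂.cons (upz3.trans (one_mul _).symm) (List.Forall₂.cons (upz5.trans (one_mul _).symm) (List.Forall₂.cons (upz7.trans (one_mul _).symm) (List.Forall₂.cons (upz9.trans (one_mul _).symm) (List.Forall₂.cons (upz11.trans (one_mul _).symm) (List.Forall₂.nil)))))))
theorem reach5 : Reach (U.lsub W2) 47 M3 := (Reach.grow hU (Reach.base _ 47) gr4)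
theorem reach8 : Reach (U.lsub ([13, 3, 5, 7, 5, 3, 13] :: W2)) 0 (ones 1782) := (Reach.grow hU (Reach.base _ 0) gr7)
theorem orb11 : (orbS (U.lsub W2) 47).ncard = 416 := reach5.ncard hU cl9 sz10
theorem orb11e : orbS (U.lsub W2) 47 = {c | Nat.testBit M3 c = true} := reach5.orb hU cl9
theorem reach14 : Reach (U.lsub W2) 1 M12 := (Reach.grow hU (Reach.base _ 1) gr13)
theorem reach17 : Reach (U.lsub ([13] :: W2)) 0 (ones 1782) := (Reach.grow hU (Reach.base _ 0) gr16)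
theorem orb20 : (orbS (U.lsub W2) 1).ncard = 1365 := reach14.ncard hU cl18 sz19
theorem orb20e : orbS (U.lsub W2) 1 = {c | Nat.testBit M12 c = true} := reach14.orb hU cl18
noncomputable def X : List SubO := [([13, 3, 5, 7, 5, 3, 13], 47, M3), ([13], 1, M12)]
theorem hX : AllP (SubOk U W2 W1) X :=
  show AllP (SubOk U W2 W1) [([13, 3, 5, 7, 5, 3, 13], 47, M3), ([13], 1, M12)] from AllP.cons ⟨U.mem_letters (by decide), (hU.sends sd6), reach5⟩ (AllP.cons ⟨U.mem_letters (by decide), (hU.sends sd15), reach14⟩ (AllP.nil))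
theorem hXc : subCov 1782 X = true := by decide +kernel
theorem hY : AllP (fun x : SubO => Reach (U.lsub (x.1 :: W2)) 0 (ones 1782)) X :=
  show AllP (fun x : SubO => Reach (U.lsub (x.1 :: W2)) 0 (ones 1782)) [([13, 3, 5, 7, 5, 3, 13], 47, M3), ([13], 1, M12)] from AllP.cons reach8 (AllP.cons reach17 (AllP.nil))
theorem hfix : gsub 7 fP ≤ FixFrom 1782 := (gsub_congr hfP).symm.le.trans (hU.gsub_fix (gs := [1, 3, 5, 7, 9, 11, 13]) (AllP.cons ff21 (AllP.cons ff22 (AllP.cons ff23 (AllP.cons ff24 (AllP.cons ff25 (AllP.cons ff26 (AllP.cons ff27 (AllP.nil)))))))))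

end Cfsg.Agent.Spor.Suz1782.S
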