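import Cfsg.Agent.Spor.Chk2
import Cfsg.Agent.Spor.Suz1782.D0

set_option autoImplicit false
set_option maxRecDepth 100000000
set_option Elab.async false
noncomputable section

namespace Cfsg.Agent.Spor.Suz1782.S

def W1 : List (List Nat) := [[1], [3], [5], [7], [9], [11], [13]]

def W2 : List (List Nat) := [[1], [3], [5], [7], [9], [11]]

def M3 : Nat := nat_lit 0x338007f20c00000000007f00000000008000804eeb80200d31802000000000000000000000000006781e72000040000000000000080181fc0d83ce8a80048c000e3fe382258640c000000000000000000000079c81e600100200000000000000703c0fe0611c474e00140c40003f3fc23904d00262800000000000000079803a00600000000000e787fe047474601cc5000cff9d4744250000000001d034530000000247ffe3ae88d25039ffd11100000034694c00001a7ffba44444ff88800001a694800027fd111f10000d240007a2390008000691000000800000000000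

def M12 : Nat := nat_lit 0xc7ff80df3ffffffffff80ffffffffff7fff7fb1147fdff2ce7fdffffffffffffffffffffffffff987e18dffffbffffffffffffff7fe7e03f27c31757ffb73fff1c01c7dda79bf3ffffffffffffffffffffff8637e19ffeffdffffffffffffff8fc3f01f9ee3b8b1ffebf3bfffc0c03dc6fb2ffd9d7fffffffffffffff867fc5ff9fffffffffff187801fb8b8b9fe33afff30062b8bbdafffffffffe2fcbacfffffffdb8001c51772dafc6002eeeffffffcb96b3ffffe580045bbbbb00777ffffe596b7fffd802eee0effff2dbfff85dc6fff7fff96effffff7ffffffffffe

def U : Tab := ⟨[n0, n1, n2, n3, n4, n5, n6], [⟨0, false, 0, 0, []⟩, ⟨0, false, 0, 0, []⟩, ⟨0, true, 0, 0, []⟩, ⟨1, false, 0, 0, []⟩, ⟨1, true, 0, 0, []⟩, ⟨2, false, 0, 0, []⟩, ⟨2, true, 0, 0, []⟩, ⟨3, false, 0, 0, []⟩, ⟨3, true, 0, 0, []⟩, ⟨4, false, 0, 0, []⟩, ⟨4, true, 0, 0, []⟩, ⟨5, false, 0, 0, []⟩, ⟨5, true, 0, 0, []⟩, ⟨6, false, 0, 0, []⟩, ⟨6, true, 0, 0, []⟩]⟩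

end Cfsg.Agent.Spor.Suz1782.S
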